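import Mathlib

/-!
The trace from `N` to `G` of an `N`-invariant endomorphism, when every
double coset `P g N` outside `N` is regular.
-/

set_option autoImplicit false
set_option linter.style.haveILetI false

namespace Cfsg.Agent.TISylowTrace

variable {G k V : Type*} [Group G] [Finite G] [CommRing k] [AddCommGroup V] [Module k V]

/-- Conjugation by `g` on endomorphisms. -/
noncomputable def conjEnd (ρ : Representation k G V) (g : G) (f : Module.End k V) : Module.End k V :=
  ρ g * f * ρ g⁻¹

omit [Finite G] in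
theorem conjEnd_mul (ρ : Representation k G V) (g h : G) (f : Module.End k V) :
    conjEnd ρ (g * h) f = conjEnd ρ g (conjEnd ρ h f) := by
  simp [conjEnd, mul_inv_rev, map_mul, mul_assoc]

omit [Finite G] in
theorem conjEnd_one (ρ : Representation k G V) (f : Module.End k V) : conjEnd ρ 1 f = f := by
  simp [conjEnd]

omit [Finite G] in
theorem rho_mul_inv (ρ : Representation k G V) (g : G) : ρ g * ρ g⁻¹ = 1 := by
  rw [← map_mul, mul_inv_cancel, map_one]

omit [Finite G] in
theorem conjEnd_eq_self_of_commute (ρ : Representation k G V) (g : G) (f : Module.End k V)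
    (h : ρ g * f = f * ρ g) : conjEnd ρ g f = f := by
  rw [conjEnd, h, mul_assoc, rho_mul_inv, mul_one]

theorem exists_trace_eq_add (ρ : Representation k G V) (P N : Subgroup G) [Fintype P] (hPN : P ≤ N)
    (hfree : ∀ g : G, g ∉ N → ∀ x ∈ P, g⁻¹ * x * g ∈ N → x = 1)
    (f : Module.End k V) (hf : ∀ a ∈ N, ρ a * f = f * ρ a) :
    ∃ g E : Module.End k V, (∀ a : G, ρ a * g = g * ρ a) ∧
      g = f + ∑ x : P, conjEnd ρ (x : G) E := by
  classical
  haveI : Fintype G := Fintype.ofFinite G
  haveI : Fintype (G ⧸ N) := Fintype.ofFinite _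
  let φ : G ⧸ N → Module.End k V := fun q => Quotient.liftOn' q (fun g => conjEnd ρ g f)
    (fun a b hab => by
      rw [QuotientGroup.leftRel_apply] at hab
      show conjEnd ρ a f = conjEnd ρ b f
      conv_rhs => rw [show b = a * (a⁻¹ * b) by group, conjEnd_mul,
        conjEnd_eq_self_of_commute ρ _ f (hf _ hab)])
  have hφ : ∀ (a : G) (q : G ⧸ N), φ (a • q) = conjEnd ρ a (φ q) := by
    intro a q
    induction q using QuotientGroup.induction_on with
    | H g => exact conjEnd_mul ρ a g f
  let q0 : G ⧸ N := ((1 : G) : G ⧸ N)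
  let r := MulAction.orbitRel P (G ⧸ N)
  let π : G ⧸ N → Quotient r := fun q => Quotient.mk r q
  let S : Finset (G ⧸ N) := Finset.univ.erase q0
  refine ⟨∑ q, φ q, ∑ ω ∈ S.image π, φ (Quotient.out ω), ?_, ?_⟩
  · intro a
    have h : conjEnd ρ a (∑ q, φ q) = ∑ q, φ q := by
      rw [← Equiv.sum_comp (MulAction.toPerm a) φ]
      simp only [conjEnd, MulAction.toPerm_apply, hφ, Finset.mul_sum, Finset.sum_mul]
      rw [← Equiv.sum_comp (MulAction.toPerm a) (fun q => ρ a * φ q * ρ a⁻¹)]
      simp only [MulAction.toPerm_apply, hφ, conjEnd]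
    conv_rhs => rw [← h]
    simp only [conjEnd, mul_assoc]
    rw [← map_mul, inv_mul_cancel, map_one, mul_one]
  · have h0 : φ q0 = f := conjEnd_one ρ f
    rw [← Finset.add_sum_erase Finset.univ φ (Finset.mem_univ q0), h0]
    congr 1
    rw [← Finset.sum_fiberwise_of_maps_to (s := S) (t := S.image π) (g := π)
      (fun q hq => Finset.mem_image_of_mem π hq) φ]
    simp only [conjEnd, Finset.mul_sum, Finset.sum_mul]
    rw [Finset.sum_comm (s := Finset.univ)]
    refine Finset.sum_congr rfl fun ω hω => ?_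
    obtain ⟨q, hqS, hqω⟩ := Finset.mem_image.mp hω
    have hout : π (Quotient.out ω) = ω := Quotient.out_eq ω
    obtain ⟨y, hy⟩ : ∃ y : P, y • q = Quotient.out ω := by
      have h1 : π (Quotient.out ω) = π q := by rw [hout, hqω]
      exact MulAction.mem_orbit_iff.mp (Quotient.exact h1)
    have hq0fix : ∀ y : P, y • q0 = q0 := by
      intro y
      show (y : G) • ((1 : G) : G ⧸ N) = ((1 : G) : G ⧸ N)
      rw [MulAction.Quotient.smul_coe, smul_eq_mul, mul_one, QuotientGroup.eq]
      simpa using N.inv_mem (hPN y.2)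
    have hoS : Quotient.out ω ≠ q0 := by
      intro h
      apply Finset.ne_of_mem_erase hqS
      rw [h] at hy
      calc q = y⁻¹ • (y • q) := (inv_smul_smul y q).symm
        _ = q0 := by rw [hy, hq0fix]
    have hinj : Function.Injective (fun x : P => x • Quotient.out ω) := by
      intro x x' hxx
      have h1 : (x'⁻¹ * x) • Quotient.out ω = Quotient.out ω := by
        rw [mul_smul, show x • Quotient.out ω = x' • Quotient.out ω from hxx, inv_smul_smul]
      obtain ⟨g, hg⟩ := QuotientGroup.mk_surjective (Quotient.out ω)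
      have hgN : g ∉ N := by
        intro hgN
        apply hoS
        rw [← hg]
        exact QuotientGroup.eq.mpr (by simpa using N.inv_mem hgN)
      rw [← hg] at h1
      have h2 : (((x'⁻¹ * x : P) : G) * g : G ⧸ N) = (g : G ⧸ N) := h1
      rw [QuotientGroup.eq] at h2
      have h3 : g⁻¹ * ((x'⁻¹ * x : P) : G) * g ∈ N := by
        have := N.inv_mem h2
        simpa [mul_assoc] using this
      have h4 : (x'⁻¹ * x : P) = 1 := Subtype.ext (hfree g hgN _ (x'⁻¹ * x).2 h3)
      exact (inv_mul_eq_one.mp h4).symm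
    have hfib : S.filter (fun q => π q = ω) = Finset.univ.image (fun x : P => x • Quotient.out ω) := by
      ext q'
      simp only [Finset.mem_filter, Finset.mem_image, Finset.mem_univ, true_and, S, Finset.mem_erase,
        ne_eq, and_true]
      constructor
      · rintro ⟨-, hq'⟩
        have h1 : π q' = π (Quotient.out ω) := by rw [hq', hout]
        exact MulAction.mem_orbit_iff.mp (Quotient.exact h1)
      · rintro ⟨x, rfl⟩
        refine ⟨fun h => hoS ?_, ?_⟩
        · calc Quotient.out ω = x⁻¹ • (x • Quotient.out ω) := (inv_smul_smul x _).symm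
            _ = q0 := by rw [h, hq0fix]
        · conv_rhs => rw [← hout]
          exact Quotient.sound ⟨x, rfl⟩
    rw [hfib, Finset.sum_image fun a _ b _ h => hinj h]
    refine Finset.sum_congr rfl fun x _ => ?_
    exact hφ (x : G) (Quotient.out ω)

omit [Finite G] in
theorem free_of_ti {p : ℕ} [Fact p.Prime] (P : Sylow p G)
    (hTI : ∀ Q : Sylow p G, Q ≠ P → (P : Subgroup G) ⊓ (Q : Subgroup G) = ⊥) (g : G)
    (hg : g ∉ Subgroup.normalizer ((P : Subgroup G) : Set G)) (x : G) (hx : x ∈ (P : Subgroup G))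
    (hxN : g⁻¹ * x * g ∈ Subgroup.normalizer ((P : Subgroup G) : Set G)) : x = 1 := by
  have hp : IsPGroup p ((P : Subgroup G).map (MulAut.conj g⁻¹).toMonoidHom) := P.2.map _
  have h1 : g⁻¹ * x * g ∈ (P : Subgroup G).map (MulAut.conj g⁻¹).toMonoidHom :=
    ⟨x, hx, by simp⟩
  have h2 : g⁻¹ * x * g ∈
      (P : Subgroup G).map (MulAut.conj g⁻¹).toMonoidHom ⊓ (P : Subgroup G) := by
    rw [← hp.inf_normalizer_sylow P]
    exact ⟨h1, hxN⟩
  have hne : g • P ≠ P := fun h => hg (Sylow.smul_eq_iff_mem_normalizer.mp h)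
  have h3 : x ∈ ((g • P : Sylow p G) : Subgroup G) := by
    rw [Sylow.coe_subgroup_smul, Subgroup.mem_pointwise_smul_iff_inv_smul_mem]
    have h5 : g⁻¹ * x * g ∈ ((P : Subgroup G) : Set G) := h2.2
    simp [MulAut.smul_def, MulAut.inv_apply]
    exact h2.2
  have h4 : x ∈ (P : Subgroup G) ⊓ ((g • P : Sylow p G) : Subgroup G) := ⟨hx, h3⟩
  rw [hTI _ hne] at h4
  exact Subgroup.mem_bot.mp h4

end Cfsg.Agent.TISylowTrace
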